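import Mathlib
import Groth.Agent.H84.RHomUnit

/-!
# Existence of `RHom(K, -)` on `D(A)` (helper9)

A homotopy invariant functor on cochain complexes whose induced functor on the homotopy category has
a right derived functor (with respect to quasi-isomorphisms of the homotopy category) has a right
derived functor with respect to quasi-isomorphisms of complexes.
-/

set_option autoImplicit false
universe w v u

open CategoryTheory CategoryTheory.Limits

namespace Groth.Agent.H9.RH

open Groth.Agent.H84.RHom

section Abstract

variable {𝒜 : Type u} [Category.{v} 𝒜] [Abelian 𝒜] [HasDerivedCategory.{w} 𝒜]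
  {H : Type*} [Category H]
  (F : CochainComplex 𝒜 ℤ ⥤ H)
  (hF : ∀ ⦃K L : CochainComplex 𝒜 ℤ⦄ (f g : K ⟶ L), Homotopy f g → F.map f = F.map g)
  (RF : DerivedCategory 𝒜 ⥤ H) (αh : CxUnit.Fh F hF ⟶ DerivedCategory.Qh ⋙ RF)

/-- the unit on complexes -/
def αc : F ⟶ DerivedCategory.Q ⋙ RF where
  app K := αh.app ((HomotopyCategory.quotient _ _).obj K)
  naturality K L f := αh.naturality ((HomotopyCategory.quotient _ _).map f)

lemma isRightDerivedFunctor_αc
    [RF.IsRightDerivedFunctor αh (HomotopyCategory.quasiIso 𝒜 (ComplexShape.up ℤ))] :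
    RF.IsRightDerivedFunctor (αc F hF RF αh)
      (HomologicalComplex.quasiIso 𝒜 (ComplexShape.up ℤ)) := by
  let Wh := HomotopyCategory.quasiIso 𝒜 (ComplexShape.up ℤ)
  let β : ∀ (E : Functor.LeftExtension DerivedCategory.Q F),
      CxUnit.Fh F hF ⟶ DerivedCategory.Qh ⋙ E.right := fun E =>
    CategoryTheory.Quotient.natTransLift _
      { app := fun K => E.hom.app K
        naturality := fun K L f => E.hom.naturality f }
  constructor
  constructor
  refine ⟨Limits.IsInitial.ofUniqueHom
    (fun E => StructuredArrow.homMk (RF.rightDerivedDesc αh Wh E.right (β E)) ?_) ?_⟩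
  · ext K
    exact RF.rightDerived_fac_app αh Wh E.right (β E) ((HomotopyCategory.quotient _ _).obj K)
  · intro E m
    ext Y
    have h1 : m.right = RF.rightDerivedDesc αh Wh E.right (β E) := by
      apply RF.rightDerived_ext αh Wh
      rw [Functor.rightDerived_fac]
      ext X
      obtain ⟨K, rfl⟩ := X.quotient_obj_surjective
      have := congr_app m.w K
      simp only [NatTrans.comp_app, Functor.whiskeringLeft_obj_map,
        Functor.whiskerLeft_app] at this
      exact this
    exact congr_app h1 Y

end Abstract

attribute [local instance] HasDerivedCategory.standard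

variable {A : Type u} [CommRing A]

/-- `RHom(K, -)` exists -/
theorem hasRHomCx (K : DRing.Cx A) : DRing.HasRHomCx K := by
  let Fh := CxUnit.Fh (DRing.homCxQ K) (homCxQ_map_eq_of_homotopy K)
  haveI : Fh.HasRightDerivedFunctor
      (HomotopyCategory.quasiIso (ModuleCat.{u} A) (ComplexShape.up ℤ)) :=
    Groth.Agent.H5.KInjDeriv.hasRightDerivedFunctor hKinj Fh
  let RF := Fh.totalRightDerived DerivedCategory.Qh
    (HomotopyCategory.quasiIso (ModuleCat.{u} A) (ComplexShape.up ℤ))
  let αh := Fh.totalRightDerivedUnit DerivedCategory.Qh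
    (HomotopyCategory.quasiIso (ModuleCat.{u} A) (ComplexShape.up ℤ))
  haveI := isRightDerivedFunctor_αc (DRing.homCxQ K) (homCxQ_map_eq_of_homotopy K) RF αh
  exact Functor.HasRightDerivedFunctor.mk' RF
    (αc (DRing.homCxQ K) (homCxQ_map_eq_of_homotopy K) RF αh)

end Groth.Agent.H9.RH
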