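import Mathlib
import Groth.Agent.H9.RH.Exists
import Groth.Agent.H30.KInjCls

/-!
# Cohomology of `RHom(K, L)`: `H^n(RHom(K, L)) ≃ Hom_{D(A)}(K, L[n])` (helper9)
-/

set_option autoImplicit false
universe u

open CategoryTheory CategoryTheory.Limits CochainComplex HomComplex DerivedCategory

attribute [local instance] HasDerivedCategory.standard

namespace Groth.Agent.H9.RH

open Groth.Agent.H30.KInjCls Groth.Agent.H84.RHom

variable {A : Type u} [CommRing A] (K L : DRing.Cx A) (n : ℤ)

/-- the short complex computing `H^n(Hom•(K, L))` -/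
noncomputable abbrev SH : ShortComplex (ModuleCat.{u} A) :=
  (DRing.homCx K L).sc' (n - 1) n (n + 1)

/-- the cocycle attached to a cycle of the Hom complex -/
noncomputable def cocycleOf (z : LinearMap.ker (SH K L n).g.hom) : Cocycle K L n :=
  Cocycle.mk (z.1 : Cochain K L n) (n + 1) rfl z.2

lemma cocycleOf_coe (z : LinearMap.ker (SH K L n).g.hom) :
    ((cocycleOf K L n z : Cocycle K L n) : Cochain K L n) = z.1 := rfl

lemma toD_smul (a : A) (x y : Cocycle K L n)
    (h : (y : Cochain K L n) = a • (x : Cochain K L n)) :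
    toD K L n y = a • toD K L n x := by
  have hy : y = x.precomp (a • 𝟙 K) := by
    apply Cocycle.ext
    rw [h]
    ext p q hpq
    rw [Cocycle.precomp_coe, Cochain.zero_cochain_comp_v, Cochain.ofHom_v, Cochain.smul_v]
    simp
  rw [hy, toD_precomp, Functor.map_smul, CategoryTheory.Functor.map_id, Linear.smul_comp,
    Category.id_comp]

/-- the class map, linear -/
noncomputable def toDLin : LinearMap.ker (SH K L n).g.hom →ₗ[A] (Q.obj K ⟶ (Q.obj L)⟦n⟧) where
  toFun z := toD K L n (cocycleOf K L n z)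
  map_add' z z' := by
    rw [← toD_add]
    congr 1
  map_smul' a z := toD_smul K L n a _ _ rfl

lemma toDLin_apply (z : LinearMap.ker (SH K L n).g.hom) :
    toDLin K L n z = toD K L n (cocycleOf K L n z) := rfl

variable [L.IsKInjective]

lemma toDLin_surjective : Function.Surjective (toDLin K L n) := by
  intro α
  obtain ⟨x, rfl⟩ := toD_surjective K L n α
  have hx : δ n (n + 1) (x : Cochain K L n) = 0 := Cocycle.δ_eq_zero x (n + 1)
  refine ⟨⟨(x : Cochain K L n), hx⟩, ?_⟩
  rw [toDLin_apply]
  congr 1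

lemma ker_toDLin :
    LinearMap.ker (toDLin K L n) = LinearMap.range (SH K L n).moduleCatToCycles := by
  ext z
  rw [LinearMap.mem_ker, toDLin_apply, toD_eq_zero_iff,
    mem_coboundaries_iff (cocycleOf K L n z) (n - 1) (by omega)]
  constructor
  · rintro ⟨β, hβ⟩
    refine ⟨β, Subtype.ext ?_⟩
    exact hβ
  · rintro ⟨β, hβ⟩
    refine ⟨β, ?_⟩
    have := congrArg Subtype.val hβ
    exact this

/-- `H^n(Hom•(K, L)) ≃ Hom_{D(A)}(K, L[n])` for `L` K-injective (explicit model of homology) -/
noncomputable def modelEquiv :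
    (SH K L n).moduleCatLeftHomologyData.H ≃ₗ[A] (Q.obj K ⟶ (Q.obj L)⟦n⟧) :=
  (Submodule.quotEquivOfEq _ _ (ker_toDLin K L n).symm).trans
    ((toDLin K L n).quotKerEquivOfSurjective (toDLin_surjective K L n))

/-- `H^n(Hom•(K, L)) ≃ Hom_{D(A)}(K, L[n])` for `L` K-injective -/
noncomputable def homologyEquiv :
    ((DRing.homCx K L).homology n : ModuleCat.{u} A) ≃ₗ[A] (Q.obj K ⟶ (Q.obj L)⟦n⟧) := by
  have hi : (ComplexShape.up ℤ).prev n = n - 1 := ComplexShape.prev_eq' _ (by simp)
  have hk : (ComplexShape.up ℤ).next n = n + 1 := ComplexShape.next_eq' _ rfl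
  exact ((ShortComplex.homologyMapIso ((DRing.homCx K L).isoSc' (n - 1) n (n + 1) hi hk)).toLinearEquiv.trans
    (SH K L n).moduleCatHomologyIso.toLinearEquiv).trans (modelEquiv K L n)

end Groth.Agent.H9.RH
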