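import Mathlib
import Groth.Agent.H9.RH.Cohomology
import Groth.Agent.H9.RG.NoethD

/-!
# `H^n(RHom(K, L)) ≃ Hom_{D(A)}(K, L[n])` for arbitrary `L ∈ D(A)` (helper9)
-/

set_option autoImplicit false
universe u

open CategoryTheory CategoryTheory.Limits CochainComplex HomComplex DerivedCategory

attribute [local instance] HasDerivedCategory.standard

namespace Groth.Agent.H9.RH

open Groth.Agent.H84.RHom

variable {A : Type u} [CommRing A]

/-- linear equivalence of Hom modules induced by an isomorphism of targets -/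
noncomputable def homCongrRight {X Y Y' : Dual.D A} (e : Y ≅ Y') : (X ⟶ Y) ≃ₗ[A] (X ⟶ Y') where
  toFun f := f ≫ e.hom
  invFun g := g ≫ e.inv
  map_add' f f' := Preadditive.add_comp _ _ _ _ _ _
  map_smul' a f := Linear.smul_comp _ _ _ a f e.hom
  left_inv f := by simp
  right_inv g := by simp

/-- linear equivalence of Hom modules induced by an isomorphism of sources -/
noncomputable def homCongrLeft {X X' Y : Dual.D A} (e : X ≅ X') : (X ⟶ Y) ≃ₗ[A] (X' ⟶ Y) where
  toFun f := e.inv ≫ f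
  invFun g := e.hom ≫ g
  map_add' f f' := Preadditive.comp_add _ _ _ _ _ _
  map_smul' a f := Linear.comp_smul _ _ _ e.inv a f
  left_inv f := by simp
  right_inv g := by simp

/-- **cohomology of `RHom`** -/
theorem nonempty_HD_RHomCx_equiv (K : DRing.Cx A) [DRing.HasRHomCx K] (L : Dual.D A) (n : ℤ) :
    Nonempty (Dual.HD A ((DRing.RHomCx K).obj L) n ≃ₗ[A] (Q.obj K ⟶ L⟦n⟧)) := by
  obtain ⟨J, hJ, -, ⟨eJ⟩⟩ := Groth.Agent.H9.RG.exists_rep L
  haveI := hJ
  have e1 : Dual.HD A ((DRing.RHomCx K).obj L) n ≃ₗ[A]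
      ((DRing.homCx K J).homology n : ModuleCat.{u} A) :=
    ((homologyFunctor (ModuleCat.{u} A) n).mapIso
      ((DRing.RHomCx K).mapIso eJ ≪≫ RHomCxIso K J hJ) ≪≫
      (homologyFunctorFactors (ModuleCat.{u} A) n).app _).toLinearEquiv
  have e2 := homologyEquiv K J n
  have e3 : (Q.obj K ⟶ (Q.obj J)⟦n⟧) ≃ₗ[A] (Q.obj K ⟶ L⟦n⟧) :=
    homCongrRight ((CategoryTheory.shiftFunctor (Dual.D A) n).mapIso eJ.symm)
  exact ⟨e1.trans (e2.trans e3)⟩

end Groth.Agent.H9.RH
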